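import Groth.Prelude.Def_W4c6equivkfinstabCyc
import Mathlib.RingTheory.Polynomial.Cyclotomic.Roots
import Mathlib.RingTheory.Polynomial.Cyclotomic.Expand
import Mathlib.Analysis.Fourier.FiniteAbelian.PontryaginDuality
import Mathlib.GroupTheory.FiniteAbelian.Duality
import Mathlib.RingTheory.IntegralDomain
import Mathlib.RingTheory.Ideal.Operations
import Mathlib.RingTheory.Ideal.Quotient.Operations

/-!
# Cyclotomic decomposition of group rings of finite commutative groups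
-/

set_option autoImplicit false
universe u v w

open Polynomial W4c6equivkfinstab

namespace Groth.Agent.GrpAlgCyc

section Basic

variable {Λ : Type u} [CommRing Λ] {M : Type v} [AddCommGroup M]

local notation "𝕖⟪" m "⟫" => AddMonoidAlgebra.single m (1 : Λ)

theorem quotMap_single (B : AddSubgroup M) (m : M) (r : Λ) :
    quotMap Λ M B (AddMonoidAlgebra.single m r) =
      AddMonoidAlgebra.single (QuotientAddGroup.mk' B m) r := by
  simp [quotMap]

theorem quotMap_surjective (B : AddSubgroup M) : Function.Surjective (quotMap Λ M B) := by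
  intro y
  induction y using AddMonoidAlgebra.induction_linear with
  | zero => exact ⟨0, map_zero _⟩
  | add p q hp hq =>
    obtain ⟨a, rfl⟩ := hp
    obtain ⟨b, rfl⟩ := hq
    exact ⟨a + b, map_add _ a b⟩
  | single m r =>
    obtain ⟨n, rfl⟩ := QuotientAddGroup.mk'_surjective B m
    exact ⟨AddMonoidAlgebra.single n r, quotMap_single B n r⟩

theorem cycQuotMap_surjective (B : AddSubgroup M) : Function.Surjective (cycQuotMap Λ M B) :=
  Ideal.Quotient.mk_surjective.comp (quotMap_surjective B)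

/-- the kernel of the restriction to a subgroup scheme -/
theorem ker_quotMap_le (B : AddSubgroup M) :
    RingHom.ker (quotMap Λ M B) ≤ Ideal.span (Set.range fun b : B => 𝕖⟪(b : M)⟫ - 1) := by
  intro x hx
  obtain ⟨s, hs⟩ := (QuotientAddGroup.mk'_surjective B).hasRightInverse
  let σ : AddMonoidAlgebra Λ (M ⧸ B) →ₗ[Λ] AddMonoidAlgebra Λ M :=
    AddMonoidAlgebra.mapDomainLinearMap Λ Λ s
  have key : ∀ y : AddMonoidAlgebra Λ M,
      y - σ (quotMap Λ M B y) ∈ Ideal.span (Set.range fun b : B => 𝕖⟪(b : M)⟫ - 1) := by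
    intro y
    induction y using AddMonoidAlgebra.induction_linear with
    | zero => simp
    | add p q hp hq =>
      rw [map_add, map_add, add_sub_add_comm]
      exact add_mem hp hq
    | single m r =>
      rw [quotMap_single]
      let m' := s (QuotientAddGroup.mk' B m)
      have hb : m - m' ∈ B := by
        rw [← QuotientAddGroup.eq_zero_iff, QuotientAddGroup.mk_sub, sub_eq_zero]
        exact (hs (QuotientAddGroup.mk' B m)).symm
      have e : AddMonoidAlgebra.single m r - σ (AddMonoidAlgebra.single (QuotientAddGroup.mk' B m) r) =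
          AddMonoidAlgebra.single m' r * (𝕖⟪m - m'⟫ - 1) := by
        rw [mul_sub, mul_one, AddMonoidAlgebra.single_mul_single, mul_one, add_sub_cancel]
        simp [σ, m']
      rw [e]
      exact Ideal.mul_mem_left _ _ (Ideal.subset_span ⟨⟨_, hb⟩, rfl⟩)
  have h := key x
  rwa [RingHom.mem_ker.1 hx, map_zero, sub_zero] at h

theorem single_pow_one (m : M) (j : ℕ) : 𝕖⟪m⟫ ^ j = 𝕖⟪j • m⟫ := by
  rw [AddMonoidAlgebra.single_pow, one_pow]

/-- A point of a cyclotomic quotient in a field where the order is invertible has the expected kernel. -/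
theorem eq_one_iff_mem (B : AddSubgroup M) [B.FiniteIndex] [IsAddCyclic (M ⧸ B)] {K : Type w} [Field K]
    (f : AddMonoidAlgebra Λ M →+* K) (hf : RingHom.ker (cycQuotMap Λ M B) ≤ RingHom.ker f)
    (hn : ((B.index : ℕ) : K) ≠ 0) (m : M) : f 𝕖⟪m⟫ = 1 ↔ m ∈ B := by
  let fb : CycQuot Λ (M ⧸ B) →+* K :=
    RingHom.liftOfSurjective (cycQuotMap Λ M B) (cycQuotMap_surjective B) ⟨f, hf⟩
  have hfb : ∀ y, fb (cycQuotMap Λ M B y) = f y := fun y =>
    RingHom.liftOfRightInverse_comp_apply _ _ _ ⟨f, hf⟩ y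
  let F : AddMonoidAlgebra Λ (M ⧸ B) →+* K := fb.comp (Ideal.Quotient.mk _)
  have hfm : f 𝕖⟪m⟫ = F 𝕖⟪(QuotientAddGroup.mk' B m)⟫ := by
    rw [← hfb]
    show fb (Ideal.Quotient.mk _ (quotMap Λ M B _)) = _
    rw [quotMap_single]
    rfl
  obtain ⟨g, hg⟩ := isAddCyclic_iff_exists_zmultiples_eq_top.mp (inferInstance : IsAddCyclic (M ⧸ B))
  have hord : addOrderOf g = Nat.card (M ⧸ B) := addOrderOf_eq_card_of_zmultiples_eq_top hg
  haveI : NeZero ((Nat.card (M ⧸ B) : ℕ) : K) := ⟨by rwa [← AddSubgroup.index_eq_card]⟩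
  have hroot : (cyclotomic (Nat.card (M ⧸ B)) K).IsRoot (F 𝕖⟪g⟫) := by
    have h0 : F (Polynomial.aeval 𝕖⟪g⟫ (cyclotomic (Nat.card (M ⧸ B)) Λ)) = 0 := by
      have : Ideal.Quotient.mk (cycIdeal Λ (M ⧸ B))
          (Polynomial.aeval 𝕖⟪g⟫ (cyclotomic (Nat.card (M ⧸ B)) Λ)) = 0 :=
        Ideal.Quotient.eq_zero_iff_mem.2 (Ideal.subset_span ⟨g, hg, rfl⟩)
      show fb (Ideal.Quotient.mk _ _) = 0
      rw [this, map_zero]
    rw [Polynomial.aeval_def, Polynomial.hom_eval₂, ← Polynomial.eval_map, map_cyclotomic] at h0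
    exact h0
  rw [isRoot_cyclotomic_iff] at hroot
  obtain ⟨j, hj⟩ : ∃ j : ℕ, j • g = QuotientAddGroup.mk' B m := by
    haveI : Finite (M ⧸ B) := AddSubgroup.finite_quotient_of_finiteIndex
    have h1 : QuotientAddGroup.mk' B m ∈ AddSubgroup.zmultiples g := hg ▸ AddSubgroup.mem_top _
    exact (isOfFinAddOrder_of_finite g).mem_multiples_iff_mem_zmultiples.2 h1
  rw [hfm, ← hj, ← single_pow_one, map_pow, hroot.pow_eq_one_iff_dvd, ← hord, addOrderOf_dvd_iff_nsmul_eq_zero, hj]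
  exact QuotientAddGroup.eq_zero_iff m

/-- an element is killed by a point iff ... : group part of the ideal of a cyclotomic quotient -/
theorem single_sub_one_mem_ker (B : AddSubgroup M) {b : M} (hb : b ∈ B) :
    𝕖⟪b⟫ - 1 ∈ RingHom.ker (cycQuotMap Λ M B) := by
  rw [RingHom.mem_ker, map_sub, map_one]
  show Ideal.Quotient.mk _ (quotMap Λ M B _) - 1 = 0
  rw [quotMap_single, show QuotientAddGroup.mk' B b = 0 from (QuotientAddGroup.eq_zero_iff b).2 hb]
  simp [← AddMonoidAlgebra.one_def]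

theorem sup_ker_eq_top (B : AddSubgroup M) [B.FiniteIndex] [IsAddCyclic (M ⧸ B)]
    (hu : IsUnit ((B.index : ℕ) : Λ)) (I : Ideal (AddMonoidAlgebra Λ M))
    (h : ∀ (K : Type (max u v)) [Field K] (f : AddMonoidAlgebra Λ M →+* K),
      I ≤ RingHom.ker f → (∀ m : M, f 𝕖⟪m⟫ = 1 ↔ m ∈ B) → False) :
    I ⊔ RingHom.ker (cycQuotMap Λ M B) = ⊤ := by
  by_contra hne
  obtain ⟨P, hP, hle⟩ := Ideal.exists_le_maximal _ hne
  letI := Ideal.Quotient.field P
  refine h (AddMonoidAlgebra Λ M ⧸ P) (Ideal.Quotient.mk P) ?_ (eq_one_iff_mem B _ ?_ ?_)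
  · rw [Ideal.mk_ker]; exact le_sup_left.trans hle
  · rw [Ideal.mk_ker]; exact le_sup_right.trans hle
  · have hu' := hu.map ((Ideal.Quotient.mk P).comp (algebraMap Λ (AddMonoidAlgebra Λ M)))
    rw [map_natCast] at hu'
    exact hu'.ne_zero

theorem isCoprime_ker {B B' : AddSubgroup M} [B.FiniteIndex] [IsAddCyclic (M ⧸ B)] [B'.FiniteIndex]
    [IsAddCyclic (M ⧸ B')] (hu : IsUnit ((B.index : ℕ) : Λ)) (hu' : IsUnit ((B'.index : ℕ) : Λ))
    (hne : B ≠ B') :
    IsCoprime (RingHom.ker (cycQuotMap Λ M B)) (RingHom.ker (cycQuotMap Λ M B')) := by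
  rw [Ideal.isCoprime_iff_sup_eq]
  refine sup_ker_eq_top B' hu' _ fun K _ f hf hB' => hne ?_
  ext m
  rw [← hB' m]
  refine (eq_one_iff_mem B f hf ?_ m).symm
  have hu'' := hu.map (f.comp (algebraMap Λ (AddMonoidAlgebra Λ M)))
  rw [map_natCast] at hu''
  exact hu''.ne_zero

theorem ker_quotMap_sup_ker_eq_top {B₀ B : AddSubgroup M} [B.FiniteIndex] [IsAddCyclic (M ⧸ B)]
    (hu : IsUnit ((B.index : ℕ) : Λ)) (hle : ¬ B₀ ≤ B) :
    RingHom.ker (quotMap Λ M B₀) ⊔ RingHom.ker (cycQuotMap Λ M B) = ⊤ := by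
  refine sup_ker_eq_top B hu _ fun K _ f hf hB => hle fun b hb => (hB b).1 ?_
  have : 𝕖⟪b⟫ - 1 ∈ RingHom.ker (quotMap Λ M B₀) := by
    rw [RingHom.mem_ker, map_sub, map_one, quotMap_single,
      show QuotientAddGroup.mk' B₀ b = 0 from (QuotientAddGroup.eq_zero_iff b).2 hb]
    simp [← AddMonoidAlgebra.one_def]
  have h1 := hf this
  rwa [RingHom.mem_ker, map_sub, map_one, sub_eq_zero] at h1

/-- the coefficient change -/
noncomputable def coeffMap (N : Type v) [AddCommGroup N] : AddMonoidAlgebra ℤ N →+* AddMonoidAlgebra Λ N :=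
  AddMonoidAlgebra.mapRingHom N (Int.castRingHom Λ)

theorem quotMap_coeffMap (B : AddSubgroup M) (x : AddMonoidAlgebra ℤ M) :
    quotMap Λ M B (coeffMap M x) = coeffMap (M ⧸ B) (quotMap ℤ M B x) := by
  induction x using AddMonoidAlgebra.induction_linear with
  | zero => simp
  | add p q hp hq => simp only [map_add, hp, hq]
  | single m r =>
    show quotMap Λ M B (AddMonoidAlgebra.mapRingHom M _ _) = AddMonoidAlgebra.mapRingHom _ _ _
    rw [AddMonoidAlgebra.mapRingHom_single, quotMap_single, quotMap_single, AddMonoidAlgebra.mapRingHom_single]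

theorem ker_cycQuotMap_le_map (B : AddSubgroup M) :
    RingHom.ker (cycQuotMap Λ M B) ≤
      (RingHom.ker (cycQuotMap ℤ M B)).map (coeffMap (Λ := Λ) M) := by
  have hgen : ∀ g : M ⧸ B, ∃ m : M, QuotientAddGroup.mk' B m = g := QuotientAddGroup.mk'_surjective B
  choose s hs using hgen
  let T : Set (AddMonoidAlgebra Λ M) :=
    {x | ∃ g : M ⧸ B, AddSubgroup.zmultiples g = ⊤ ∧
      x = Polynomial.aeval 𝕖⟪(s g)⟫ (cyclotomic (Nat.card (M ⧸ B)) Λ)}
  have hq : ∀ g : M ⧸ B, quotMap Λ M B (Polynomial.aeval 𝕖⟪(s g)⟫ (cyclotomic (Nat.card (M ⧸ B)) Λ)) =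
      Polynomial.aeval (AddMonoidAlgebra.single g (1 : Λ)) (cyclotomic (Nat.card (M ⧸ B)) Λ) := by
    intro g
    rw [Polynomial.aeval_def, Polynomial.hom_eval₂, quotMap_single, hs, Polynomial.aeval_def]
    congr 1
    exact RingHom.ext fun r => by simp [quotMap_single]
  have hle : RingHom.ker (cycQuotMap Λ M B) ≤ Ideal.span T ⊔ RingHom.ker (quotMap Λ M B) := by
    intro x hx
    have h1 : quotMap Λ M B x ∈ (Ideal.span T).map (quotMap Λ M B) := by
      have h2 : quotMap Λ M B x ∈ cycIdeal Λ (M ⧸ B) := Ideal.Quotient.eq_zero_iff_mem.1 hx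
      rw [Ideal.map_span]
      refine Ideal.span_mono ?_ h2
      rintro _ ⟨g, hg, rfl⟩
      exact ⟨_, ⟨g, hg, rfl⟩, hq g⟩
    have h3 : x ∈ ((Ideal.span T).map (quotMap Λ M B)).comap (quotMap Λ M B) := h1
    rwa [Ideal.comap_map_of_surjective _ (quotMap_surjective B), ← RingHom.ker_eq_comap_bot] at h3
  refine hle.trans (sup_le (Ideal.span_le.2 ?_) ((ker_quotMap_le B).trans (Ideal.span_le.2 ?_)))
  · rintro _ ⟨g, hg, rfl⟩
    have e : Polynomial.aeval 𝕖⟪(s g)⟫ (cyclotomic (Nat.card (M ⧸ B)) Λ) =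
        coeffMap M (Polynomial.aeval (AddMonoidAlgebra.single (s g) (1 : ℤ)) (cyclotomic (Nat.card (M ⧸ B)) ℤ)) := by
      rw [Polynomial.aeval_def, Polynomial.aeval_def, Polynomial.hom_eval₂,
        ← map_cyclotomic _ (Int.castRingHom Λ), Polynomial.eval₂_map]
      congr 1
      · exact RingHom.ext_int _ _
      · simp [coeffMap]
    rw [e]
    refine Ideal.mem_map_of_mem _ ?_
    rw [RingHom.mem_ker]
    refine Ideal.Quotient.eq_zero_iff_mem.2 (Ideal.subset_span ⟨g, hg, ?_⟩)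
    rw [Polynomial.aeval_def, Polynomial.hom_eval₂, quotMap_single, hs, Polynomial.aeval_def]
    congr 1
    exact RingHom.ext_int _ _
  · rintro _ ⟨b, rfl⟩
    have e : 𝕖⟪(b : M)⟫ - 1 = coeffMap M (AddMonoidAlgebra.single (b : M) (1 : ℤ) - 1) := by
      rw [map_sub, map_one]; simp [coeffMap]
    show 𝕖⟪(b : M)⟫ - 1 ∈ _
    rw [e]
    exact Ideal.mem_map_of_mem _ (single_sub_one_mem_ker B b.2)

end Basic

section Product

variable {M : Type v} [AddCommGroup M]

/-- A product over all cyclic quotients kills the group ring of the finite quotient. -/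
theorem quotMap_eq_zero_of_mem_prod (B₀ : AddSubgroup M) [B₀.FiniteIndex] (s : Finset (AddSubgroup M))
    (hs : ∀ B : AddSubgroup M, B₀ ≤ B → IsAddCyclic (M ⧸ B) → B ∈ s) {x : AddMonoidAlgebra ℤ M}
    (hx : x ∈ ∏ B ∈ s, RingHom.ker (cycQuotMap ℤ M B)) : quotMap ℤ M B₀ x = 0 := by
  classical
  haveI : Finite (M ⧸ B₀) := AddSubgroup.finite_quotient_of_finiteIndex
  letI := Fintype.ofFinite (M ⧸ B₀)
  let y := quotMap ℤ M B₀ x
  have hψ : ∀ ψ : AddChar (M ⧸ B₀) ℂ, ∑ a : M ⧸ B₀, ((y.coeff a : ℤ) : ℂ) * ψ a = 0 := by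
    intro ψ
    let F : AddMonoidAlgebra ℤ (M ⧸ B₀) →+* ℂ :=
      ((AddMonoidAlgebra.lift ℤ ℂ (M ⧸ B₀)) ψ.toMonoidHom).toRingHom
    have hF : ∀ z, F z = ∑ a : M ⧸ B₀, ((z.coeff a : ℤ) : ℂ) * ψ a := by
      intro z
      show (AddMonoidAlgebra.lift ℤ ℂ (M ⧸ B₀)) ψ.toMonoidHom z = _
      rw [AddMonoidAlgebra.lift_apply, Finsupp.sum_fintype _ _ (fun a => by simp)]
      simp [AddChar.toMonoidHom_apply]
    let χ : M →+ Additive ℂˣ := MonoidHom.toAdditiveRight
      ((ψ.toMonoidHom).toHomUnits.comp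
        (AddMonoidHom.toMultiplicative (QuotientAddGroup.mk' B₀)))
    have hχ : ∀ m, ((Additive.toMul (χ m) : ℂˣ) : ℂ) = ψ (QuotientAddGroup.mk' B₀ m) := fun m => rfl
    have hFs : ∀ (m : M) (r : ℤ), F (quotMap ℤ M B₀ (AddMonoidAlgebra.single m r)) =
        r * ψ (QuotientAddGroup.mk' B₀ m) := by
      intro m r
      rw [quotMap_single]
      show (AddMonoidAlgebra.lift ℤ ℂ (M ⧸ B₀)) ψ.toMonoidHom _ = _
      rw [AddMonoidAlgebra.lift_single]
      simp [AddChar.toMonoidHom_apply]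
    let B : AddSubgroup M := χ.ker
    have hB0 : B₀ ≤ B := fun b hb => by
      refine AddMonoidHom.mem_ker.2 ?_
      apply Additive.toMul.injective
      apply Units.ext
      rw [hχ, show QuotientAddGroup.mk' B₀ b = 0 from (QuotientAddGroup.eq_zero_iff b).2 hb, AddChar.map_zero_eq_one]
      rfl
    haveI : B.FiniteIndex := AddSubgroup.finiteIndex_of_le hB0
    haveI : Finite (M ⧸ B) := AddSubgroup.finite_quotient_of_finiteIndex
    haveI hcyc : IsAddCyclic (M ⧸ B) := by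
      haveI : Finite (Multiplicative (M ⧸ B)) := Finite.of_equiv _ Multiplicative.ofAdd
      let ι : Multiplicative (M ⧸ B) →* ℂ :=
        (Units.coeHom ℂ).comp (AddMonoidHom.toMultiplicativeLeft (QuotientAddGroup.kerLift χ))
      haveI : IsCyclic (Multiplicative (M ⧸ B)) := isCyclic_of_subgroup_isDomain ι fun a b h =>
        Multiplicative.toAdd.injective (QuotientAddGroup.kerLift_injective χ
          (Additive.toMul.injective (Units.ext h)))
      exact isCyclic_multiplicative_iff.1 inferInstance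
    have hle : RingHom.ker (cycQuotMap ℤ M B) ≤ RingHom.ker (F.comp (quotMap ℤ M B₀)) := by
      intro z hz
      have h1 : z ∈ (RingHom.ker (cycQuotMap ℤ M B)).map (coeffMap (Λ := ℤ) M) :=
        ker_cycQuotMap_le_map B hz
      -- both maps factor through the quotient by `B`
      let G : AddMonoidAlgebra ℤ (M ⧸ B) →+* ℂ :=
        ((AddMonoidAlgebra.lift ℤ ℂ (M ⧸ B)) ((Units.coeHom ℂ).comp
          (AddMonoidHom.toMultiplicativeLeft (QuotientAddGroup.kerLift χ)))).toRingHom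
      have hG : ∀ w : AddMonoidAlgebra ℤ M, F (quotMap ℤ M B₀ w) = G (quotMap ℤ M B w) := by
        intro w
        induction w using AddMonoidAlgebra.induction_linear with
        | zero => simp
        | add p q hp hq => simp only [map_add, hp, hq]
        | single m r =>
          rw [hFs, quotMap_single]
          show _ = (AddMonoidAlgebra.lift ℤ ℂ (M ⧸ B)) _ _
          rw [AddMonoidAlgebra.lift_single, zsmul_eq_mul]
          rfl
      have hGc : cycIdeal ℤ (M ⧸ B) ≤ RingHom.ker G := by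
        refine Ideal.span_le.2 ?_
        rintro _ ⟨g, hg, rfl⟩
        show G _ = 0
        rw [Polynomial.aeval_def, Polynomial.hom_eval₂, ← Polynomial.eval_map, map_cyclotomic]
        have hG1 : G (AddMonoidAlgebra.single g (1 : ℤ)) =
            ((Additive.toMul (QuotientAddGroup.kerLift χ g) : ℂˣ) : ℂ) := by
          show (AddMonoidAlgebra.lift ℤ ℂ (M ⧸ B)) _ _ = _
          rw [AddMonoidAlgebra.lift_single, one_smul]
          rfl
        rw [hG1]
        have hord : addOrderOf g = Nat.card (M ⧸ B) := addOrderOf_eq_card_of_zmultiples_eq_top hg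
        have hprim : IsPrimitiveRoot ((Additive.toMul (QuotientAddGroup.kerLift χ g) : ℂˣ) : ℂ)
            (Nat.card (M ⧸ B)) := by
          rw [IsPrimitiveRoot.coe_units_iff, ← hord]
          have h := addOrderOf_injective (QuotientAddGroup.kerLift χ) (QuotientAddGroup.kerLift_injective χ) g
          rw [← h, ← ofMul_toMul (QuotientAddGroup.kerLift χ g), addOrderOf_ofMul_eq_orderOf, toMul_ofMul]
          exact IsPrimitiveRoot.orderOf _
        exact hprim.isRoot_cyclotomic (Nat.card_pos)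
      rw [RingHom.mem_ker, RingHom.comp_apply, hG]
      exact hGc (Ideal.Quotient.eq_zero_iff_mem.1 hz)
    have : F (quotMap ℤ M B₀ x) = 0 :=
      hle ((Ideal.prod_le_inf.trans (Finset.inf_le (hs B hB0 hcyc))) hx)
    rwa [hF] at this
  refine AddMonoidAlgebra.coeff_injective (Finsupp.ext fun b => ?_)
  have h0 : ∑ ψ : AddChar (M ⧸ B₀) ℂ, ψ (-b) * ∑ a : M ⧸ B₀, ((y.coeff a : ℤ) : ℂ) * ψ a = 0 := by
    simp [hψ]
  simp only [Finset.mul_sum] at h0
  rw [Finset.sum_comm] at h0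
  have h1 : ∀ a, ∑ ψ : AddChar (M ⧸ B₀) ℂ, ψ (-b) * (((y.coeff a : ℤ) : ℂ) * ψ a) =
      ((y.coeff a : ℤ) : ℂ) * ∑ ψ : AddChar (M ⧸ B₀) ℂ, ψ (a - b) := fun a => by
    rw [Finset.mul_sum]
    refine Finset.sum_congr rfl fun ψ _ => ?_
    rw [sub_eq_add_neg, AddChar.map_add_eq_mul]; ring
  simp only [h1, AddChar.sum_apply_eq_ite, sub_eq_zero, mul_ite, mul_zero, Finset.sum_ite_eq',
    Finset.mem_univ, if_true, mul_eq_zero, Nat.cast_eq_zero, Fintype.card_ne_zero, or_false,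
    Int.cast_eq_zero] at h0
  simpa [y] using h0

variable {Λ : Type u} [CommRing Λ]

theorem map_prod_ker_eq_bot (B₀ : AddSubgroup M) [B₀.FiniteIndex] (s : Finset (AddSubgroup M))
    (hs : ∀ B : AddSubgroup M, B₀ ≤ B → IsAddCyclic (M ⧸ B) → B ∈ s) :
    ∏ B ∈ s, RingHom.ker (cycQuotMap Λ M B) ≤ RingHom.ker (quotMap Λ M B₀) := by
  refine le_trans (Finset.prod_le_prod' fun B _ => ker_cycQuotMap_le_map (Λ := Λ) B) ?_
  rw [show ∀ f : AddMonoidAlgebra _ M →+* _, (∏ B ∈ s, Ideal.map f (RingHom.ker (cycQuotMap _ M B))) = Ideal.map f (∏ B ∈ s, RingHom.ker (cycQuotMap _ M B)) from fun f => (map_prod (Ideal.mapHom f) _ _).symm, Ideal.map_le_iff_le_comap]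
  intro x hx
  rw [Ideal.mem_comap, RingHom.mem_ker, quotMap_coeffMap, quotMap_eq_zero_of_mem_prod B₀ s hs hx, map_zero]

/-- the subgroups with cyclic quotient above one of finite index -/
theorem exists_finset_cyclic (B₀ : AddSubgroup M) [B₀.FiniteIndex] :
    ∃ s : Finset (AddSubgroup M), ∀ B, B ∈ s ↔ B₀ ≤ B ∧ IsAddCyclic (M ⧸ B) := by
  haveI : Finite (M ⧸ B₀) := AddSubgroup.finite_quotient_of_finiteIndex
  have hfin : {B : AddSubgroup M | B₀ ≤ B ∧ IsAddCyclic (M ⧸ B)}.Finite := by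
    refine (Set.finite_range (fun C : AddSubgroup (M ⧸ B₀) => C.comap (QuotientAddGroup.mk' B₀))).subset
      fun B hB => ⟨B.map (QuotientAddGroup.mk' B₀), ?_⟩
    show (B.map _).comap _ = B
    rw [AddSubgroup.comap_map_eq, QuotientAddGroup.ker_mk', sup_eq_left.2 hB.1]
  exact ⟨hfin.toFinset, fun B => hfin.mem_toFinset⟩

/-- Chinese remainder theorem for the cyclotomic ideals. -/
theorem exists_forall_sub_mem {B₀ : AddSubgroup M} [B₀.FiniteIndex] (hu : IsUnit ((B₀.index : ℕ) : Λ))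
    (y : {B : AddSubgroup M // B₀ ≤ B ∧ IsAddCyclic (M ⧸ B)} → AddMonoidAlgebra Λ M) :
    ∃ x, ∀ B, x - y B ∈ RingHom.ker (cycQuotMap Λ M B.1) := by
  obtain ⟨s, hs⟩ := exists_finset_cyclic B₀
  haveI : Finite {B : AddSubgroup M // B₀ ≤ B ∧ IsAddCyclic (M ⧸ B)} :=
    Finite.of_equiv s (Equiv.subtypeEquivRight hs)
  refine Ideal.exists_forall_sub_mem_ideal (fun B B' hne => ?_) y
  haveI := AddSubgroup.finiteIndex_of_le B.2.1
  haveI := AddSubgroup.finiteIndex_of_le B'.2.1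
  haveI := B.2.2
  haveI := B'.2.2
  exact isCoprime_ker (isUnit_of_dvd_unit (Nat.cast_dvd_cast (AddSubgroup.index_dvd_of_le B.2.1)) hu)
    (isUnit_of_dvd_unit (Nat.cast_dvd_cast (AddSubgroup.index_dvd_of_le B'.2.1)) hu)
    fun h => hne (Subtype.ext h)

theorem mem_ker_quotMap {B₀ : AddSubgroup M} [B₀.FiniteIndex] (hu : IsUnit ((B₀.index : ℕ) : Λ))
    {x : AddMonoidAlgebra Λ M}
    (hx : ∀ B : AddSubgroup M, B₀ ≤ B → IsAddCyclic (M ⧸ B) →
      x ∈ RingHom.ker (quotMap Λ M B₀) ⊔ RingHom.ker (cycQuotMap Λ M B)) :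
    quotMap Λ M B₀ x = 0 := by
  classical
  obtain ⟨s, hs⟩ := exists_finset_cyclic B₀
  have hbot : ∏ B ∈ s, (RingHom.ker (cycQuotMap Λ M B)).map (quotMap Λ M B₀) = ⊥ := by
    rw [show ∀ f : AddMonoidAlgebra _ M →+* _, (∏ B ∈ s, Ideal.map f (RingHom.ker (cycQuotMap _ M B))) = Ideal.map f (∏ B ∈ s, RingHom.ker (cycQuotMap _ M B)) from fun f => (map_prod (Ideal.mapHom f) _ _).symm, Ideal.map_eq_bot_iff_le_ker]
    exact map_prod_ker_eq_bot B₀ s fun B h1 h2 => (hs B).2 ⟨h1, h2⟩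
  have hpw : (s : Set (AddSubgroup M)).Pairwise
      (Function.onFun IsCoprime fun B => (RingHom.ker (cycQuotMap Λ M B)).map (quotMap Λ M B₀)) := by
    intro B hB B' hB' hne
    obtain ⟨hB1, hB2⟩ := (hs B).1 hB
    obtain ⟨hB1', hB2'⟩ := (hs B').1 hB'
    haveI := AddSubgroup.finiteIndex_of_le hB1
    haveI := AddSubgroup.finiteIndex_of_le hB1'
    have h := isCoprime_ker (Λ := Λ) (isUnit_of_dvd_unit (Nat.cast_dvd_cast (AddSubgroup.index_dvd_of_le hB1)) hu)
      (isUnit_of_dvd_unit (Nat.cast_dvd_cast (AddSubgroup.index_dvd_of_le hB1')) hu) hne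
    rw [Ideal.isCoprime_iff_sup_eq] at h
    show IsCoprime _ _
    rw [Ideal.isCoprime_iff_sup_eq, ← Ideal.map_sup, h, Ideal.map_top]
  rw [Ideal.prod_eq_iInf_of_pairwise_isCoprime hpw] at hbot
  refine (Submodule.eq_bot_iff _).1 hbot _ ?_
  simp only [Submodule.mem_iInf]
  intro B hB
  obtain ⟨hB1, hB2⟩ := (hs B).1 hB
  obtain ⟨a, ha, b, hb, rfl⟩ := Submodule.mem_sup.1 (hx B hB1 hB2)
  rw [map_add, RingHom.mem_ker.1 ha, zero_add]
  exact Ideal.mem_map_of_mem _ hb

end Product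

end Groth.Agent.GrpAlgCyc
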